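import Groth.Prelude.Def_AssocGrMod
import Mathlib.RingTheory.AdicCompletion.Basic
import Mathlib.Tactic

/-!
# Lifting generators from the associated graded module of a filtered module over a complete ring
-/

universe u

namespace Groth.Agent.AdicGrLib

open AssocGr

variable {A : Type u} [CommRing A] {I : Ideal A}

theorem exists_limit [IsPrecomplete I A] (s : ℕ → A) (h : ∀ n, s (n + 1) - s n ∈ I ^ n) :
    ∃ L : A, ∀ n, L - s n ∈ I ^ n := by
  have hd : ∀ m k, s (m + k) - s m ∈ I ^ m := by
    intro m k
    induction k with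
    | zero => simp
    | succ k ih =>
      have := add_mem (Ideal.pow_le_pow_right (Nat.le_add_right m k) (h (m + k))) ih
      rwa [sub_add_sub_cancel] at this
  obtain ⟨L, hL⟩ := IsPrecomplete.prec' (I := I) s (fun {m n} hmn => by
    obtain ⟨k, rfl⟩ := Nat.exists_eq_add_of_le hmn
    rw [SModEq.sub_mem, smul_eq_mul, Ideal.mul_top, ← neg_mem_iff, neg_sub]
    exact hd m k)
  refine ⟨L, fun n => ?_⟩
  have := hL n
  rw [SModEq.sub_mem, smul_eq_mul, Ideal.mul_top, ← neg_mem_iff, neg_sub] at this
  exact this

variable {M : Type u} [AddCommGroup M] [Module A M] (F : I.Filtration M)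

/-- If the classes of `x i` generate the classes of all elements of `M'`, the `x i` generate `M'`. -/
theorem eq_span [IsPrecomplete I A] (h0 : F.N 0 = ⊤) (hsep : ⨅ n, F.N n = ⊥) {ι : Type*} [Finite ι]
    (d : ι → ℕ) (x : (i : ι) → ↥(F.N (d i))) (M' : Submodule A M) (hx : ∀ i, (x i : M) ∈ M')
    (hgen : ∀ (n : ℕ) (m : F.N n), (m : M) ∈ M' → (inDegM F n m : GrMod F) ∈
      Submodule.span (GrRing (FiltBl.IdealFiltration.adic I)) (Set.range fun i => (inDegM F (d i) (x i) : GrMod F))) :
    M' = Submodule.span A (Set.range fun i => (x i : M)) := by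
  classical
  cases nonempty_fintype ι
  refine le_antisymm (fun m₀ hm₀ => ?_) (Submodule.span_le.2 (Set.range_subset_iff.2 hx))
  have hstep : ∀ (n : ℕ) (m : M), m ∈ M' → m ∈ F.N n → ∃ a : ι → A,
      (∀ i, a i ∈ I ^ (n - d i)) ∧ (∀ i, n < d i → a i = 0) ∧ m - ∑ i, a i • (x i : M) ∈ F.N (n + 1) := by
    intro n m hm hmn
    obtain ⟨c, hc⟩ := (Submodule.mem_span_range_iff_exists_fun _).1 (hgen n ⟨m, hmn⟩ hm)
    choose f hf using fun i => mkG_surjective _ (c i)
    simp only [← hf, coe_inDegM, mkG_smul_mkGM] at hc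
    rw [← map_sum] at hc
    have hd : mkGM F ((∑ i, f i • monomM F (d i) (x i)) - monomM F n ⟨m, hmn⟩) = 0 := by
      rw [map_sub, hc, sub_self]
    rw [mkGM_eq_zero_iff, mem_succMod_iff] at hd
    have h1 := hd n
    have hsum : ReesM.coeff F ((∑ i, f i • monomM F (d i) (x i)) - monomM F n ⟨m, hmn⟩) n =
        (∑ i, (if d i ≤ n then (f i : Polynomial A).coeff (n - d i) else 0) • (x i : M)) - m := by
      rw [← ReesM.coeffHom_apply, map_sub, map_sum, ReesM.coeffHom_apply, ReesM.coeff_monomM, if_pos rfl]
      congr 1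
      refine Finset.sum_congr rfl fun i _ => ?_
      rw [ReesM.coeffHom_apply, ReesM.coeff_smul]
      simp only [ReesM.coeff_monomM, smul_ite, smul_zero]
      split_ifs with hi
      · rw [Finset.sum_eq_single (n - d i, d i), if_pos rfl]
        · intro p hp hne
          rw [if_neg]
          intro he
          exact hne (Prod.ext (by rw [Finset.mem_antidiagonal] at hp; omega) he.symm)
        · intro hne
          exact absurd (Finset.mem_antidiagonal.2 (Nat.sub_add_cancel hi)) hne
      · rw [zero_smul]
        refine Finset.sum_eq_zero fun p hp => if_neg fun he => hi ?_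
        rw [Finset.mem_antidiagonal] at hp; omega
    rw [hsum] at h1
    refine ⟨fun i => if d i ≤ n then (f i : Polynomial A).coeff (n - d i) else 0, fun i => ?_,
      fun i hi => if_neg (not_le.2 hi), ?_⟩
    · dsimp only
      split_ifs
      · exact (f i).2 _
      · exact zero_mem _
    · rw [← neg_mem_iff, neg_sub]; exact h1
  choose! a ha ha0 hastep using hstep
  let r : ℕ → M := fun n => Nat.rec m₀ (fun j y => y - ∑ i, a j y i • (x i : M)) n
  have rS : ∀ n, r (n + 1) = r n - ∑ i, a n (r n) i • (x i : M) := fun n => rfl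
  have hr : ∀ n, r n ∈ M' ∧ r n ∈ F.N n := by
    intro n
    induction n with
    | zero => exact ⟨hm₀, by rw [h0]; trivial⟩
    | succ n ih =>
      rw [rS]
      exact ⟨sub_mem ih.1 (sum_mem fun i _ => M'.smul_mem _ (hx i)), hastep n _ ih.1 ih.2⟩
  let s : ι → ℕ → A := fun i n => ∑ j ∈ Finset.range n, a j (r j) i
  have hL : ∀ i, ∃ L : A, ∀ n, L - s i (n + d i) ∈ I ^ n := fun i => by
    refine exists_limit (fun n => s i (n + d i)) fun n => ?_
    simp only [s]
    rw [show n + 1 + d i = (n + d i) + 1 by omega, Finset.sum_range_succ, add_sub_cancel_left]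
    simpa using ha (n + d i) _ (hr _).1 (hr _).2 i
  choose L hL using hL
  have hrs : ∀ n, r n = m₀ - ∑ i, s i n • (x i : M) := by
    intro n
    induction n with
    | zero => simp [s, r]
    | succ n ih => rw [rS]; simp only [s, Finset.sum_range_succ, add_smul, Finset.sum_add_distrib]; linear_combination (norm := abel) ih
  have hall : m₀ - ∑ i, L i • (x i : M) ∈ ⨅ n, F.N n := by
    refine Submodule.mem_iInf _ |>.2 fun n => ?_
    have h2 : ∀ i, (L i - s i n) • (x i : M) ∈ F.N n := by
      intro i
      rcases le_or_gt (d i) n with hi | hi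
      · have h3 := hL i (n - d i)
        rw [Nat.sub_add_cancel hi] at h3
        have h4 := F.pow_smul_le (n - d i) (d i) (Submodule.smul_mem_smul h3 (x i).2)
        rwa [Nat.sub_add_cancel hi] at h4
      · refine Submodule.smul_mem _ _ ?_
        exact F.antitone hi.le (x i).2
    have h3 : m₀ - ∑ i, L i • (x i : M) = r n - ∑ i, (L i - s i n) • (x i : M) := by
      rw [hrs]; simp only [sub_smul, Finset.sum_sub_distrib]; abel
    rw [h3]
    exact sub_mem (hr n).2 (sum_mem fun i _ => h2 i)
  rw [hsep, Submodule.mem_bot, sub_eq_zero] at hall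
  rw [hall]
  exact sum_mem fun i _ => Submodule.smul_mem _ _ (Submodule.subset_span ⟨i, rfl⟩)

/-- Every element of the associated graded module is a sum of homogeneous classes. -/
theorem span_homogeneous :
    Submodule.span (GrRing (FiltBl.IdealFiltration.adic I))
      (Set.range fun p : (n : ℕ) × F.N n => (inDegM F p.1 p.2 : GrMod F)) = ⊤ := by
  refine eq_top_iff.2 fun z _ => ?_
  obtain ⟨y, rfl⟩ := mkGM_surjective F z
  rw [← sum_termM F y, map_sum]
  exact sum_mem fun n _ => Submodule.subset_span ⟨⟨n, ⟨ReesM.coeff F y n, ReesM.coeff_mem F y n⟩⟩, rfl⟩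

end Groth.Agent.AdicGrLib
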